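import Groth.Agent.VBCurve.K427.SubVanB
import Groth.Agent.VarietyA.StalkCrit
import Groth.Agent.CurvesB.SmoothCurveFacts
import Mathlib.AlgebraicGeometry.AlgClosed.Basic

/-!
# The image of `N(-∑ x) ⟶ N` on stalks
-/

set_option autoImplicit false
universe u
open CategoryTheory CategoryTheory.Limits AlgebraicGeometry Opposite MonoidalCategory IsLocalRing

namespace Groth.Agent.VBCurve.K427.SubVanC

open Groth.Agent Groth.Agent.Fdesc.LocGen Groth.Agent.Dix.IdealModCartier K553.Sub SubVanA SubVanB
  Groth.Agent.Divis.CartierBasic Groth.Agent.CycB.StalkExact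
open scoped Groth.Agent.Dcoh.MonCat

theorem span_prod {R : Type*} [CommRing R] {ι : Type*} (α : ι → R) (l : List ι) :
    Ideal.span {(l.map α).prod} = (l.map fun i => Ideal.span {α i}).prod := by
  induction l with
  | nil => rw [List.map_nil, List.map_nil, List.prod_nil, List.prod_nil, Ideal.span_singleton_one, Ideal.one_eq_top]
  | cons i l ih =>
    rw [List.map_cons, List.prod_cons, List.map_cons, List.prod_cons, ← ih, Ideal.span_singleton_mul_span_singleton]

theorem isGen_germ {X : Scheme.{u}} {M : X.Modules} {U : X.Opens} {e : Γ(M, U)} (he : IsGen e) (x : X) (hx : x ∈ U) :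
    CycB.ModStalk.IsGen M x (M.presheaf.germ U x hx e) :=
  CycB.ModStalk.IsGenOn.isGen (L := M) (fun V h => he V h) x hx

section field

variable {k : Type u} [Field k] (C : Over (Spec (CommRingCat.of k)))
  [IsIntegral C.left] [IsProper C.hom] [Smooth C.hom] (hdim : topologicalKrullDim C.left = 1)

include hdim in
theorem twp_gen (N : C.left.Modules) (hN : PicF.IsInvertible N) (x : List (pt (Spec (CommRingCat.of k)) ⟶ C))
    (c : C.left) : ∃ (U : C.left.Opens) (hc : c ∈ U) (e : Γ(twp N x, U)) (n : Γ(N, U)) (a : Γ(C.left, U)),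
      IsGen e ∧ IsGen n ∧ (twpι N x).app U e = a • n ∧
      Ideal.span {C.left.presheaf.germ U c hc a} = (x.map fun z => stalkIdeal z.left.ker c).prod := by
  have h0 : PicF.IsInvertible ((Scheme.Modules.pullback (𝟙 C : C ⟶ C).left).obj N) := isInvertible_pullback _ hN
  rw [isInvertible_iff] at h0
  obtain ⟨U₀, n, hc, hn⟩ := h0 c
  choose α hα hα' using fun z : pt (Spec (CommRingCat.of k)) ⟶ C => exists_loc (isEff_diag C hdim) (cst z) (𝟙 C) c
  obtain ⟨U, ht, hU, e, a, he, h1, h2⟩ := exists_tw_gen (T := C) N cst (𝟙 C) c α hα hc hn x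
  refine ⟨U, ht, e, ((Scheme.Modules.pullbackId C.left).hom.app N).app U (res _ hU n), a, he,
    IsGen.app ((Scheme.Modules.pullbackId C.left).hom.app N) (hn.res hU), ?_, ?_⟩
  · change ((Scheme.Modules.pullbackId C.left).hom.app N).app U ((twι N (x.map cst) (𝟙 C)).app U e) = _
    rw [h1]
    exact Scheme.Modules.Hom.app_smul ((Scheme.Modules.pullbackId C.left).hom.app N) _ _
  · rw [h2, span_prod]
    congr 2
    funext z
    rw [hα' z, ker_eq]

include hdim in
theorem isInvertible_twp (N : C.left.Modules) (hN : PicF.IsInvertible N)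
    (x : List (pt (Spec (CommRingCat.of k)) ⟶ C)) : PicF.IsInvertible (twp N x) := by
  rw [isInvertible_iff]
  intro c
  obtain ⟨U, hc, e, -, -, he, -⟩ := twp_gen C hdim N hN x c
  exact ⟨U, e, hc, he⟩

include hdim in
theorem twp_stalk (N : C.left.Modules) (hN : PicF.IsInvertible N) (x : List (pt (Spec (CommRingCat.of k)) ⟶ C))
    (c : C.left) : ∃ (e : (twp N x).presheaf.stalk c) (n : N.presheaf.stalk c) (a : C.left.presheaf.stalk c),
      CycB.ModStalk.IsGen _ c e ∧ CycB.ModStalk.IsGen _ c n ∧ stalkLin (twpι N x) c e = a • n ∧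
      Ideal.span {a} = (x.map fun z => stalkIdeal z.left.ker c).prod := by
  obtain ⟨U, hc, e, n, a, he, hn, h1, h2⟩ := twp_gen C hdim N hN x c
  refine ⟨_, _, _, isGen_germ he c hc, isGen_germ hn c hc, ?_, h2⟩
  rw [stalkLin_germ, h1]
  exact CycB.StalkExact.germ_smul _ _ _ _

include hdim in
theorem range_twpι' (N : C.left.Modules) (hN : PicF.IsInvertible N) (x : List (pt (Spec (CommRingCat.of k)) ⟶ C))
    (c : C.left) : LinearMap.range (stalkLin (twpι N x) c) = (x.map fun z => stalkIdeal z.left.ker c).prod •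
      (⊤ : Submodule (C.left.presheaf.stalk c) (N.presheaf.stalk c)) := by
  obtain ⟨e, n, a, he, hn, h1, h2⟩ := twp_stalk C hdim N hN x c
  rw [← h2, Submodule.ideal_span_singleton_smul]
  ext m
  rw [Submodule.mem_smul_pointwise_iff_exists]
  constructor
  · rintro ⟨s, rfl⟩
    obtain ⟨r, rfl⟩ := he.2 s
    refine ⟨r • n, trivial, ?_⟩
    dsimp only
    rw [map_smul, h1, smul_comm]
  · rintro ⟨s, -, rfl⟩
    obtain ⟨r, rfl⟩ := hn.2 s
    refine ⟨r • e, ?_⟩
    dsimp only
    rw [map_smul, h1, smul_comm]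

include hdim in
theorem atp_ne_genericPoint (x : pt (Spec (CommRingCat.of k)) ⟶ C) : atp x ≠ genericPoint C.left := by
  intro h
  have hcl := isClosedImmersion_pt x
  have h1 : IsClosed ({atp x} : Set C.left) := by
    have h2 := x.left.isClosedEmbedding.isClosed_range
    have h3 : Set.range x.left = {atp x} := by
      ext y
      constructor
      · rintro ⟨z, rfl⟩
        have hz : z = closedPoint k := Subsingleton.elim (α := PrimeSpectrum k) _ _
        rw [hz]; rfl
      · rintro rfl; exact ⟨_, rfl⟩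
    rwa [h3] at h2
  rw [h] at h1
  have h2 : ({genericPoint C.left} : Set C.left) = Set.univ := by
    rw [← h1.closure_eq]; exact genericPoint_closure _
  have h3 : Subsingleton C.left := Set.subsingleton_univ_iff.1 (by rw [← h2]; exact Set.subsingleton_singleton)
  have h4 : topologicalKrullDim C.left ≤ 0 := by
    have : Subsingleton (TopologicalSpace.IrreducibleCloseds C.left) := ⟨fun a b => by
      apply TopologicalSpace.IrreducibleCloseds.ext
      have h5 : ∀ s : TopologicalSpace.IrreducibleCloseds C.left, (s : Set C.left) = Set.univ := fun s => by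
        obtain ⟨y, hy⟩ := s.2.nonempty
        exact Set.eq_univ_of_forall fun z => by rwa [Subsingleton.elim z y]
      rw [h5 a, h5 b]⟩
    exact Order.krullDim_nonpos_of_subsingleton
  rw [hdim] at h4
  exact absurd h4 (by decide)

include hdim in
theorem prod_ne_bot (x : List (pt (Spec (CommRingCat.of k)) ⟶ C)) (c : C.left) :
    (x.map fun z => stalkIdeal z.left.ker c).prod ≠ ⊥ := by
  rw [← Ideal.zero_eq_bot]
  apply List.prod_ne_zero
  intro h
  obtain ⟨z, -, hz⟩ := List.mem_map.1 h
  by_cases hc : c = atp z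
  · subst hc
    rw [stalkIdeal_pt] at hz
    exact CurvesB.SmoothCurveFacts.not_isField_stalk (atp_ne_genericPoint C hdim z)
      (IsLocalRing.isField_iff_maximalIdeal_eq.2 hz)
  · rw [stalkIdeal_pt_ne z hc] at hz
    exact top_ne_bot hz

include hdim in
theorem mono_twpι (N : C.left.Modules) (hN : PicF.IsInvertible N) (x : List (pt (Spec (CommRingCat.of k)) ⟶ C)) :
    Mono (twpι N x) := by
  apply VarietyA.StalkCrit.mono_of_stalks
  intro c
  obtain ⟨e, n, a, he, hn, h1, h2⟩ := twp_stalk C hdim N hN x c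
  have ha : a ≠ 0 := by
    rintro rfl
    rw [Ideal.span_singleton_zero] at h2
    exact prod_ne_bot C hdim x c h2.symm
  rw [injective_iff_map_eq_zero]
  intro s hs
  obtain ⟨r, rfl⟩ := he.2 s
  dsimp only at hs ⊢
  rw [map_smul, h1, smul_smul] at hs
  have h3 : r * a = 0 := hn.1 (hs.trans (zero_smul _ n).symm)
  rw [(mul_eq_zero.1 h3).resolve_right ha, zero_smul]

omit [IsIntegral C.left] [Smooth C.hom] in
theorem atp_injective [IsAlgClosed k] {x y : pt (Spec (CommRingCat.of k)) ⟶ C} (h : atp x = atp y) : x = y := by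
  ext1
  exact ext_of_apply_closedPoint_eq C.hom (Over.w x) (Over.w y) h

theorem prod_stalkIdeal [IsAlgClosed k] [DecidableEq (pt (Spec (CommRingCat.of k)) ⟶ C)]
    (x : List (pt (Spec (CommRingCat.of k)) ⟶ C)) (c : pt (Spec (CommRingCat.of k)) ⟶ C) :
    (x.map fun z => stalkIdeal z.left.ker (atp c)).prod =
      maximalIdeal (C.left.presheaf.stalk (atp c)) ^ (x.count c) := by
  induction x with
  | nil => simp
  | cons z x ih =>
    rw [List.map_cons, List.prod_cons, ih, List.count_cons]
    by_cases hz : z = c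
    · subst hz
      rw [stalkIdeal_pt, if_pos (by simp), pow_succ, mul_comm]
    · rw [stalkIdeal_pt_ne z (fun h => hz (atp_injective C h.symm)), if_neg (by simpa using hz), Ideal.top_mul, add_zero]

end field

end Groth.Agent.VBCurve.K427.SubVanC

namespace K553.Sub

open Groth.Agent.VBCurve.K427

variable {k : Type u} [Field k] [IsAlgClosed k] (C : Over (Spec (CommRingCat.of k)))
  [IsIntegral C.left] [IsProper C.hom] [Smooth C.hom] (hdim : topologicalKrullDim C.left = 1)

include hdim in
/-- the image of `N(-∑ x) ⟶ N` on stalks -/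
theorem range_twpι (N : C.left.Modules) (hN : PicF.IsInvertible N) (x : List (pt (Spec (CommRingCat.of k)) ⟶ C))
    (c : pt (Spec (CommRingCat.of k)) ⟶ C) [DecidableEq (pt (Spec (CommRingCat.of k)) ⟶ C)] :
    Mono (twpι N x) ∧
    LinearMap.range (Groth.Agent.CycB.StalkExact.stalkLin (twpι N x) (atp c)) =
      IsLocalRing.maximalIdeal (C.left.presheaf.stalk (atp c)) ^ (x.count c) •
        (⊤ : Submodule (C.left.presheaf.stalk (atp c)) (N.presheaf.stalk (atp c))) := by
  refine ⟨SubVanC.mono_twpι C hdim N hN x, ?_⟩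
  rw [SubVanC.range_twpι' C hdim N hN x, SubVanC.prod_stalkIdeal]

end K553.Sub
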