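import Groth.Agent.VBCurve.K427.SubVanD
import Groth.Agent.VBCurve.K569.SubInv

/-!
# Sections of `N` vanishing on `∑ x`: dimension
-/

set_option autoImplicit false
universe u
open CategoryTheory CategoryTheory.Limits AlgebraicGeometry

namespace K553.Sub

open Groth.Agent.VBCurve.K427

variable {k : Type u} [Field k] [IsAlgClosed k] (C : Over (Spec (CommRingCat.of k)))
  [IsIntegral C.left] [IsProper C.hom] [Smooth C.hom] (hdim : topologicalKrullDim C.left = 1)

include hdim in
theorem finrank_vanSub {g : ℕ} (hgen : Curv2.genus k C.left = g) (N : C.left.Modules) (hN : PicF.IsInvertible N)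
    (x : List (pt (Spec (CommRingCat.of k)) ⟶ C)) :
    Module.Finite k (Coh.structureModule C.left ⟶ N) ∧
    Module.finrank k (vanSub C N x) = Module.finrank k (Coh.HH C.left (twp N x) 0) ∧
    (2 * (g : ℤ) - 1 ≤ Curv2.deg k C.left N 1 - x.length →
      (Module.finrank k (vanSub C N x) : ℤ) = Curv2.deg k C.left N 1 - x.length + 1 - g) :=
  ⟨SubVanD.finite_hom C N hN, SubVanD.finrank_vanSub' C hdim N hN x,
    SubVanD.finrank_vanSub_deg C hdim hgen N hN x (deg_twp C hdim N hN x)⟩

end K553.Sub
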