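import Groth.Agent.VBCurve.K553.SubDefs2
import Groth.Agent.Dix.IdealModCartier
import Groth.Agent.Dcoh.MonTm
import Groth.Agent.CycB.ModStalk

/-!
# Sections of the twists `tw N l y`: local generators
-/

set_option autoImplicit false
universe u
open CategoryTheory CategoryTheory.Limits AlgebraicGeometry Opposite MonoidalCategory

namespace Groth.Agent.VBCurve.K427.SubVanA

open Groth.Agent Groth.Agent.Fdesc.LocGen Groth.Agent.Dix.IdealModCartier K553.Sub
open scoped Groth.Agent.Dcoh.MonCat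

variable {X Y : Scheme.{u}}

/-- `f^* O ≅ O` on pulled back sections -/
theorem pullUnitIso_pullSec (f : X ⟶ Y) {U : Y.Opens} (a : Γ(Y, U)) :
    (show Γ(X, f ⁻¹ᵁ U) from (Krr.H482.PullTens.pullUnitIso f).hom.app (f ⁻¹ᵁ U)
      (pullSec f (M := Coh.structureModule Y) (show Γ(Coh.structureModule Y, U) from a))) = f.app U a := by
  have h2 : ((Scheme.Modules.pullbackPushforwardAdjunction f).unit.app (Coh.structureModule Y) ≫
      (Scheme.Modules.pushforward f).map (Groth.Agent.Fga.UnitRestrict.pullbackUnitHom f)).app U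
        (show Γ(Coh.structureModule Y, U) from a) = f.app U a := by
    rw [Groth.Agent.Fga.UnitRestrict.unit_pullbackUnitHom]
    rfl
  exact h2

variable {S : Scheme.{u}} {C : Over S}

theorem Dι_pullSec {T : Over S} (a b : T ⟶ C) {U : (pullback C.hom C.hom).Opens} (s : Γ(diagMod C, U)) :
    (show Γ(T.left, pair a b ⁻¹ᵁ U) from (Dι a b).app (pair a b ⁻¹ᵁ U) (pullSec (pair a b) s)) =
      (pair a b).app U (val _ s) := by
  have h := pullback_map_pullSec (pair a b) (ClSub.idealModι (pullback.diagonal C.hom).ker) s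
  have h2 := pullUnitIso_pullSec (pair a b) (val _ s)
  rw [← h2]
  exact congrArg ((Krr.H482.PullTens.pullUnitIso (pair a b)).hom.app (pair a b ⁻¹ᵁ U)) h

theorem twπ_tm {T : Over S} (N : C.left.Modules) (z : T ⟶ C) (l : List (T ⟶ C)) (y : T ⟶ C)
    {U : T.left.Opens} (d : Γ(D z y, U)) (m : Γ(tw N l y, U)) :
    (twπ N z l y).app U (Dcoh.MonTm.tm d m) =
      (show Γ(T.left, U) from (Dι z y).app U d) • m := by
  change (λ_ (tw N l y)).hom.app U ((Dι z y ▷ tw N l y).app U (Dcoh.MonTm.tm d m)) = _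
  rw [Dcoh.MonTm.whiskerRight_tm]
  exact Dcoh.MonTm.leftUnitor_hom_tm _ _

theorem isGen_tm {M N : X.Modules} {U : X.Opens} {m : Γ(M, U)} {n : Γ(N, U)}
    (hm : IsGen m) (hn : IsGen n) : IsGen (M := CohB1.tensorMod M N) (Dcoh.MonTm.tm m n) :=
  hm.tmul hn

end Groth.Agent.VBCurve.K427.SubVanA
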