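import Groth.Agent.VBCurve.K427.SubVanA
import Groth.Agent.S15990
import Groth.Agent.Picfga.CurveRelDim
import Groth.Agent.Divis.CartierStalk

/-!
# Local generators of `D a b` and of `tw N l y`, and their images in `O` and `y^* N`
-/

set_option autoImplicit false
universe u
open CategoryTheory CategoryTheory.Limits AlgebraicGeometry Opposite MonoidalCategory IsLocalRing

namespace Groth.Agent.VBCurve.K427.SubVanB

open Groth.Agent Groth.Agent.Fdesc.LocGen Groth.Agent.Dix.IdealModCartier K553.Sub SubVanA
  Groth.Agent.Divis.CartierBasic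
open scoped Groth.Agent.Dcoh.MonCat

section gen

variable {S : Scheme.{u}} {C : Over S}

/-- `D a b` has near `t` a generator whose image in `O` has germ `α`. -/
def Loc {T : Over S} (a b : T ⟶ C) (t : T.left) (α : T.left.presheaf.stalk t) : Prop :=
  ∃ (U : T.left.Opens) (h : t ∈ U) (d : Γ(D a b, U)), IsGen d ∧
    T.left.presheaf.germ U t h (show Γ(T.left, U) from (Dι a b).app U d) = α

theorem exists_loc (hdiag : BlowUp.IsEffCartierIdeal (pullback.diagonal C.hom).ker) {T : Over S} (a b : T ⟶ C)
    (t : T.left) : ∃ α, Loc a b t α ∧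
      Ideal.span {α} = stalkIdeal ((pullback.diagonal C.hom).ker.comap (pair a b)) t := by
  obtain ⟨U, g, hxU, hg⟩ := exists_genOn hdiag (pair a b t)
  have h0 := (hg U le_rfl).2
  rw [ores_refl] at h0
  obtain ⟨s, hs⟩ := exists_val_eq (pullback.diagonal C.hom).ker U (a := g) (by
    rw [h0]; exact Ideal.mem_span_singleton_self _)
  have gs : IsGen s := isGen_of_genOn (hs.symm ▸ hg)
  refine ⟨_, ⟨pair a b ⁻¹ᵁ U.1, hxU, pullSec (pair a b) s, gs.pullSec _, rfl⟩, ?_⟩
  have h1 := Dι_pullSec a b s
  rw [Divis.CartierStalk.stalkIdeal_comap, stalkIdeal_eq _ U hxU, h0, Ideal.map_span, Set.image_singleton,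
    Ideal.map_span, Set.image_singleton]
  congr 2
  refine (congrArg _ h1).trans ?_
  rw [hs]
  exact (Scheme.Hom.germ_stalkMap_apply (pair a b) U.1 t hxU g).symm

theorem exists_tw_gen {T : Over S} (N : C.left.Modules) {ι : Type*} (g : ι → (T ⟶ C)) (y : T ⟶ C) (t : T.left)
    (α : ι → T.left.presheaf.stalk t) (h : ∀ i, Loc (g i) y t (α i)) {U₀ : T.left.Opens} (h₀ : t ∈ U₀)
    {n : Γ((Scheme.Modules.pullback y.left).obj N, U₀)} (hn : IsGen n) (l : List ι) :
    ∃ (U : T.left.Opens) (ht : t ∈ U) (hU : U ≤ U₀) (e : Γ(tw N (l.map g) y, U)) (a : Γ(T.left, U)), IsGen e ∧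
      (twι N (l.map g) y).app U e = a • res _ hU n ∧
      T.left.presheaf.germ U t ht a = (l.map α).prod := by
  induction l with
  | nil =>
    refine ⟨U₀, h₀, le_rfl, n, 1, hn, ?_, ?_⟩
    · rw [one_smul, res_refl]
      rfl
    · rw [map_one]; rfl
  | cons i l ih =>
    obtain ⟨U, ht, hU, e, a, he, h1, h2⟩ := ih
    obtain ⟨V, hV, d, hd, h3⟩ := h i
    refine ⟨V ⊓ U, ⟨hV, ht⟩, inf_le_right.trans hU,
      Dcoh.MonTm.tm (res _ inf_le_left d) (res _ inf_le_right e),
      ores inf_le_left (show Γ(T.left, V) from (Dι (g i) y).app V d) * ores inf_le_right a,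
      isGen_tm (hd.res _) (he.res _), ?_, ?_⟩
    · change (twι N (l.map g) y).app (V ⊓ U) ((twπ N (g i) (l.map g) y).app (V ⊓ U) _) = _
      rw [twπ_tm, Scheme.Modules.Hom.app_smul, app_res, app_res, h1, res_smul, res_res, smul_smul]
      rfl
    · rw [map_mul, List.map_cons, List.prod_cons, ← h2, ← h3]
      congr 1
      · exact T.left.presheaf.germ_res_apply _ _ _ _
      · exact T.left.presheaf.germ_res_apply _ _ _ _

theorem ker_eq_comap {P Z Y T : Scheme.{u}} {a : P ⟶ Z} {b : P ⟶ T} {i : Z ⟶ Y} {f : T ⟶ Y}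
    (h : IsPullback a b i f) [IsClosedImmersion i] : b.ker = i.ker.comap f := by
  rw [← Scheme.IdealSheafData.ker_fst_of_isClosedImmersion,
    ← Scheme.Hom.ker_comp_of_isIso h.flip.isoPullback.hom, IsPullback.isoPullback_hom_fst]

theorem pair_fst {T : Over S} (a b : T ⟶ C) : K553.Sub.pair a b ≫ pullback.fst C.hom C.hom = a.left :=
  pullback.lift_fst _ _ _

theorem pair_snd {T : Over S} (a b : T ⟶ C) : K553.Sub.pair a b ≫ pullback.snd C.hom C.hom = b.left :=
  pullback.lift_snd _ _ _

theorem isPullback_cst (x : pt S ⟶ C) :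
    IsPullback x.left x.left (pullback.diagonal C.hom) (K553.Sub.pair (cst x) (𝟙 C)) := by
  have hx : x.left ≫ C.hom = 𝟙 S := Over.w x
  have h1 : (cst x).left = C.hom ≫ x.left := rfl
  have h2 : ∀ s : PullbackCone (pullback.diagonal C.hom) (K553.Sub.pair (cst x) (𝟙 C)),
      s.fst = s.snd ≫ C.hom ≫ x.left ∧ s.fst = s.snd := by
    intro s
    have h2 := congrArg (· ≫ pullback.fst C.hom C.hom) s.condition
    have h3 := congrArg (· ≫ pullback.snd C.hom C.hom) s.condition
    simp only [Category.assoc, pullback.diagonal_fst, pullback.diagonal_snd, pair_fst, pair_snd, Category.comp_id,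
      h1] at h2 h3
    exact ⟨h2, h3.trans (Category.comp_id _)⟩
  refine ⟨⟨?_⟩, ⟨PullbackCone.IsLimit.mk _ (fun s => s.snd ≫ C.hom) (fun s => ?_) (fun s => ?_) (fun s m _ h => ?_)⟩⟩
  · apply pullback.hom_ext
    · simp only [Category.assoc, pullback.diagonal_fst, pair_fst, h1, reassoc_of% hx, Category.comp_id]
      exact (Category.id_comp _).symm
    · simp only [Category.assoc, pullback.diagonal_snd, pair_snd]
      rfl
  · rw [Category.assoc]
    exact (h2 s).1.symm
  · rw [Category.assoc]
    exact (h2 s).1.symm.trans (h2 s).2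
  · rw [← h, Category.assoc, hx]
    exact (Category.comp_id _).symm

theorem ker_eq [IsSeparated C.hom] (x : pt S ⟶ C) :
    (pullback.diagonal C.hom).ker.comap (K553.Sub.pair (cst x) (𝟙 C)) = x.left.ker :=
  (ker_eq_comap (isPullback_cst x)).symm

end gen

section field

variable {k : Type u} [Field k] (C : Over (Spec (CommRingCat.of k)))

theorem isEff_diag [IsIntegral C.left] [IsProper C.hom] [Smooth C.hom] (hdim : topologicalKrullDim C.left = 1) :
    BlowUp.IsEffCartierIdeal (pullback.diagonal C.hom).ker := by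
  have h1 : SmoothOfRelativeDimension 1 C.hom :=
    Picfga.CurveRelDim.smoothOfRelativeDimension_of_topologicalKrullDim_eq k C.left C.hom 1 (by simpa using hdim)
  have h2 : SmoothOfRelativeDimension 1 (pullback.fst C.hom C.hom) :=
    smoothOfRelativeDimension_isStableUnderBaseChange 1 |>.of_isPullback
      (IsPullback.of_hasPullback C.hom C.hom).flip h1
  exact (S15990.result (pullback.fst C.hom C.hom) (pullback.diagonal C.hom) (pullback.diagonal_fst _)).1

variable {C}

theorem isClosedImmersion_pt [IsSeparated C.hom] (x : pt (Spec (CommRingCat.of k)) ⟶ C) : IsClosedImmersion x.left := by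
  have h : IsClosedImmersion (x.left ≫ C.hom) := by
    rw [Over.w x]; change IsClosedImmersion (𝟙 _); infer_instance
  exact IsClosedImmersion.of_comp x.left C.hom

theorem stalkIdeal_pt [IsSeparated C.hom] (x : pt (Spec (CommRingCat.of k)) ⟶ C) :
    stalkIdeal x.left.ker (atp x) = maximalIdeal (C.left.presheaf.stalk (atp x)) := by
  have hcl := isClosedImmersion_pt x
  let z : Spec (CommRingCat.of k) := closedPoint k
  change stalkIdeal x.left.ker (x.left z) = maximalIdeal (C.left.presheaf.stalk (x.left z))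
  rw [← Divis.CartierStalk.ker_stalkMap]
  have hf : IsField ((Spec (CommRingCat.of k)).presheaf.stalk z) := by
    refine isField_stalk_of_closure_mem_irreducibleComponents _ _ ?_
    have h1 : closure {z} = (Set.univ : Set (Spec (CommRingCat.of k))) :=
      Set.eq_univ_of_forall fun z' => by
        have : z' = z := Subsingleton.elim _ _
        rw [this]
        exact subset_closure rfl
    rw [h1, irreducibleComponents_eq_singleton]
    rfl
  have hb := IsLocalRing.isField_iff_maximalIdeal_eq.1 hf
  apply le_antisymm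
  · exact IsLocalRing.le_maximalIdeal (RingHom.ker_ne_top _)
  · intro a ha
    have h2 : (x.left.stalkMap z).hom a ∈ maximalIdeal _ := by
      rw [mem_maximalIdeal, mem_nonunits_iff] at ha ⊢
      exact fun h => ha (isUnit_of_map_unit _ a h)
    erw [hb] at h2
    exact h2

theorem stalkIdeal_pt_ne [IsSeparated C.hom] (x : pt (Spec (CommRingCat.of k)) ⟶ C) {y : C.left} (hy : y ≠ atp x) :
    stalkIdeal x.left.ker y = ⊤ := by
  have hcl := isClosedImmersion_pt x
  rw [← notMem_support_iff_stalkIdeal_eq_top]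
  intro h
  have h3 : y ∈ (x.left.ker.support : Set C.left) := h
  rw [Scheme.Hom.support_ker, IsClosed.closure_eq x.left.isClosedEmbedding.isClosed_range] at h3
  obtain ⟨z', rfl⟩ := h3
  have hz : z' = closedPoint k := Subsingleton.elim (α := PrimeSpectrum k) _ _
  exact hy (by rw [hz]; rfl)

end field

end Groth.Agent.VBCurve.K427.SubVanB
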