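import Groth.Agent.VBCurve.K427.SubVanC
import Groth.Agent.VBCurve.K704.HomK
import Groth.Agent.VBCurve.K706.Secant

/-!
# Sections of `N` vanishing on `∑ x`
-/

set_option autoImplicit false
universe u
open CategoryTheory CategoryTheory.Limits AlgebraicGeometry Opposite MonoidalCategory IsLocalRing

namespace K553.Sub

section field

variable {k : Type u} [Field k] [IsAlgClosed k] (C : Over (Spec (CommRingCat.of k)))
  [IsIntegral C.left] [IsProper C.hom] [Smooth C.hom] (hdim : topologicalKrullDim C.left = 1)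

/-- The germ at `c` of the section `v`. -/
noncomputable def gv {N : C.left.Modules} (c : C.left) (v : Coh.structureModule C.left ⟶ N) :
    N.presheaf.stalk c := N.presheaf.germ ⊤ c trivial (v.app ⊤ (1 : Γ(C.left, ⊤)))

/-- the sections vanishing on `∑ x`, as a subspace -/
noncomputable def vanSub (N : C.left.Modules) (x : List (pt (Spec (CommRingCat.of k)) ⟶ C)) :
    Submodule k (Coh.structureModule C.left ⟶ N) where
  carrier := {v | Van N x v}
  zero_mem' := ⟨0, zero_comp⟩
  add_mem' := by
    rintro _ _ ⟨w, rfl⟩ ⟨w', rfl⟩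
    exact ⟨w + w', Preadditive.add_comp _ _ _ _ _ _⟩
  smul_mem' := by
    rintro c _ ⟨w, rfl⟩
    exact ⟨c • w, Linear.smul_comp _ _ _ _ _ _⟩

end field

end K553.Sub

namespace Groth.Agent.VBCurve.K427.SubVanD

open Groth.Agent K553.Sub SubVanA SubVanB SubVanC Groth.Agent.CycB.StalkExact Groth.Agent.Fdesc.LocGen

section gen

variable {X : Scheme.{u}}

theorem stalk_zero {M N : X.Modules} (x : X) : stalkLin (0 : M ⟶ N) x = 0 := by
  ext m
  change ((stalkFun x).map 0).hom m = 0
  rw [(stalkFun x).map_zero]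
  rfl

/-- A section of a module on a scheme locally of finite type over a field vanishes if its germs at all closed
points vanish. -/
theorem eq_zero_of_germ [JacobsonSpace X] {M : X.Modules} (v : Coh.structureModule X ⟶ M)
    (h : ∀ c : X, IsClosed ({c} : Set X) → M.presheaf.germ ⊤ c trivial (v.app ⊤ (1 : Γ(X, ⊤))) = 0) : v = 0 := by
  set s : Γ(M, ⊤) := v.app ⊤ (1 : Γ(X, ⊤)) with hs
  have key : ∀ p : X, ∃ U : X.Opens, p ∈ U ∧ res M (le_top : U ≤ ⊤) s = 0 := by
    by_contra hcon
    push Not at hcon
    obtain ⟨p, hp⟩ := hcon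
    -- the set of points near which `s` vanishes is open; its complement is closed and nonempty
    let Z : Set X := {q | ∀ U : X.Opens, q ∈ U → res M (le_top : U ≤ ⊤) s ≠ 0}
    have hZ : IsClosed Z := by
      rw [← isOpen_compl_iff, isOpen_iff_forall_mem_open]
      intro q hq
      have hq' : ¬ ∀ U : X.Opens, q ∈ U → res M (le_top : U ≤ ⊤) s ≠ 0 := hq
      push Not at hq'
      obtain ⟨U, hU, hU'⟩ := hq'
      exact ⟨U, fun r hr hr' => hr' U hr hU', U.2, hU⟩
    have hne : Z.Nonempty := ⟨p, hp⟩
    have h1 := JacobsonSpace.closure_inter_closedPoints hZ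
    have h2 : (Z ∩ closedPoints X).Nonempty := by
      rw [Set.nonempty_iff_ne_empty]
      intro h3
      rw [h3, closure_empty] at h1
      exact hne.ne_empty h1.symm
    obtain ⟨c, hc, hc'⟩ := h2
    have h4 := h c hc'
    obtain ⟨W, hW, i, j, h5⟩ := M.presheaf.germ_eq (U := ⊤) (V := ⊤) c trivial trivial s 0
      (h4.trans (map_zero _).symm)
    refine hc W hW ?_
    rw [map_zero] at h5
    exact h5
  have h0 : s = 0 := by
    choose U hU hU' using key
    refine res_ext M U (fun i => le_top) (fun x _ => TopologicalSpace.Opens.mem_iSup.2 ⟨x, hU x⟩) fun i => ?_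
    rw [hU', map_zero]
  exact Dcoh.Restrict.unit_hom_ext v 0 h0

end gen

variable {k : Type u} [Field k] [IsAlgClosed k] (C : Over (Spec (CommRingCat.of k)))
  [IsIntegral C.left] [IsProper C.hom] [Smooth C.hom] (hdim : topologicalKrullDim C.left = 1)

omit [IsAlgClosed k] [IsIntegral C.left] [IsProper C.hom] [Smooth C.hom] in
theorem gv_comp {M N : C.left.Modules} (c : C.left) (v : Coh.structureModule C.left ⟶ M) (φ : M ⟶ N) :
    gv C c (v ≫ φ) = stalkLin φ c (gv C c v) :=
  (stalkLin_germ (U := ⊤) φ c trivial _).symm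

omit [IsIntegral C.left] [Smooth C.hom] in
theorem exists_atp (c : C.left) (hc : IsClosed ({c} : Set C.left)) :
    ∃ x : pt (Spec (CommRingCat.of k)) ⟶ C, atp x = c :=
  ⟨Over.homMk (pointOfClosedPoint C.hom c hc) (pointOfClosedPoint_comp C.hom c hc),
    pointOfClosedPoint_apply C.hom c hc _⟩

include hdim in
theorem van_iff' (N : C.left.Modules) (hN : PicF.IsInvertible N) (x : List (pt (Spec (CommRingCat.of k)) ⟶ C))
    (v : Coh.structureModule C.left ⟶ N) :
    Van N x v ↔ ∀ c : pt (Spec (CommRingCat.of k)) ⟶ C,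
      gv C (atp c) v ∈ LinearMap.range (stalkLin (twpι N x) (atp c)) := by
  constructor
  · rintro ⟨w, rfl⟩ c
    rw [gv_comp]
    exact ⟨_, rfl⟩
  · intro h
    have hm := mono_twpι C hdim N hN x
    have hJ : JacobsonSpace C.left := LocallyOfFiniteType.jacobsonSpace C.hom
    have h0 : v ≫ cokernel.π (twpι N x) = 0 := by
      apply eq_zero_of_germ
      intro c hc
      obtain ⟨y, rfl⟩ := exists_atp C c hc
      obtain ⟨s, hs⟩ := h y
      change gv C (atp y) (v ≫ cokernel.π (twpι N x)) = 0
      rw [gv_comp, ← hs, ← LinearMap.comp_apply, ← stalkLin_comp, cokernel.condition]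
      exact congr($(stalk_zero (M := twp N x) (N := cokernel (twpι N x)) (atp y)) s)
    exact ⟨Abelian.monoLift (twpι N x) v h0, Abelian.monoLift_comp _ _ _⟩

end Groth.Agent.VBCurve.K427.SubVanD

namespace K553.Sub

open Groth.Agent Groth.Agent.VBCurve.K427

variable {k : Type u} [Field k] [IsAlgClosed k] (C : Over (Spec (CommRingCat.of k)))
  [IsIntegral C.left] [IsProper C.hom] [Smooth C.hom] (hdim : topologicalKrullDim C.left = 1)

include hdim in
theorem van_iff (N : C.left.Modules) (hN : PicF.IsInvertible N) (x : List (pt (Spec (CommRingCat.of k)) ⟶ C))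
    [DecidableEq (pt (Spec (CommRingCat.of k)) ⟶ C)] (v : Coh.structureModule C.left ⟶ N) :
    Van N x v ↔ ∀ c : pt (Spec (CommRingCat.of k)) ⟶ C,
      gv C (atp c) v ∈ IsLocalRing.maximalIdeal (C.left.presheaf.stalk (atp c)) ^ (x.count c) •
        (⊤ : Submodule (C.left.presheaf.stalk (atp c)) (N.presheaf.stalk (atp c))) := by
  rw [SubVanD.van_iff' C hdim N hN x v]
  refine forall_congr' fun c => ?_
  rw [(range_twpι C hdim N hN x c).2]

end K553.Sub

namespace Groth.Agent.VBCurve.K427.SubVanD

open Groth.Agent K553.Sub SubVanA SubVanB SubVanC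

variable {k : Type u} [Field k] [IsAlgClosed k] (C : Over (Spec (CommRingCat.of k)))
  [IsIntegral C.left] [IsProper C.hom] [Smooth C.hom] (hdim : topologicalKrullDim C.left = 1)

omit [IsAlgClosed k] [Smooth C.hom] in
theorem finite_hom (N : C.left.Modules) (hN : PicF.IsInvertible N) : Module.Finite k (Coh.structureModule C.left ⟶ N) := by
  have hp : IsProper (C.left ↘ Spec (CommRingCat.of k)) := inferInstanceAs (IsProper C.hom)
  have hf : Module.Finite k (Coh.HH C.left N 0) :=
    S0002.result k C.left N (K707.Base.isCoh_of_rank (K706.VStab.rank_one hN)) 0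
  exact K706.HomFin.finite_unit_hom k N

include hdim in
omit [IsAlgClosed k] in
theorem finrank_vanSub' (N : C.left.Modules) (hN : PicF.IsInvertible N)
    (x : List (pt (Spec (CommRingCat.of k)) ⟶ C)) :
    Module.finrank k (vanSub C N x) = Module.finrank k (Coh.HH C.left (twp N x) 0) := by
  have hm := mono_twpι C hdim N hN x
  rw [← K704.HomK.finrank_range_post k (twpι N x)]
  have h : vanSub C N x = LinearMap.range (K704.HomK.post k (twpι N x)) := by
    ext v
    exact Iff.rfl
  rw [h]

include hdim in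
theorem finrank_vanSub_deg {g : ℕ} (hgen : Curv2.genus k C.left = g) (N : C.left.Modules) (hN : PicF.IsInvertible N)
    (x : List (pt (Spec (CommRingCat.of k)) ⟶ C))
    (hdeg : Curv2.deg k C.left (twp N x) 1 = Curv2.deg k C.left N 1 - x.length)
    (h : 2 * (g : ℤ) - 1 ≤ Curv2.deg k C.left N 1 - x.length) :
    (Module.finrank k (vanSub C N x) : ℤ) = Curv2.deg k C.left N 1 - x.length + 1 - g := by
  have hp : IsProper (C.left ↘ Spec (CommRingCat.of k)) := inferInstanceAs (IsProper C.hom)
  have hs : Smooth (C.left ↘ Spec (CommRingCat.of k)) := inferInstanceAs (Smooth C.hom)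
  rw [finrank_vanSub' C hdim N hN x, K706.Secant.rr hdim hgen (twp N x),
    K706.Secant.h1_zero hdim hgen (isInvertible_twp C hdim N hN x) (by rw [hdeg]; exact h), hdeg]
  push_cast
  ring

end Groth.Agent.VBCurve.K427.SubVanD
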